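import Mathlib.Analysis.Normed.Module.FiniteDimension
import Mathlib.Topology.MetricSpace.HausdorffDistance
import Mathlib.Analysis.Normed.Module.Basic
import Mathlib.Topology.Algebra.Module.ModuleTopology
import Mathlib.LinearAlgebra.Dual.Lemmas

/-!
# Pointed closed cones and rational kernels
-/

set_option autoImplicit false

noncomputable section

namespace PsefLib

universe u v

theorem isBounded_interval {E : Type u} [NormedAddCommGroup E] [NormedSpace ℝ E] [FiniteDimensional ℝ E]
    {C : Set E} (hC : IsClosed C) (hsmul : ∀ t : ℝ, 0 < t → ∀ x ∈ C, t • x ∈ C)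
    (hp : ∀ x ∈ C, -x ∈ C → x = 0) (a : E) : Bornology.IsBounded {y | y ∈ C ∧ a - y ∈ C} := by
  haveI : ProperSpace E := FiniteDimensional.proper_real E
  rcases (C ∩ Metric.sphere (0 : E) 1).eq_empty_or_nonempty with he | hne
  · refine (Metric.isBounded_closedBall (x := (0 : E)) (r := 0)).subset fun y hy => ?_
    rw [Metric.mem_closedBall, dist_zero_right]
    by_contra hn
    have hy0 : 0 < ‖y‖ := lt_of_le_of_ne (norm_nonneg _) (fun h => hn h.ge)
    refine Set.notMem_empty (‖y‖⁻¹ • y) (he ▸ ⟨hsmul _ (inv_pos.2 hy0) _ hy.1, ?_⟩)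
    rw [mem_sphere_zero_iff_norm, norm_smul, norm_inv, norm_norm, inv_mul_cancel₀ hy0.ne']
  have hK : IsCompact (C ∩ Metric.sphere (0 : E) 1) := (isCompact_sphere _ _).inter_left hC
  obtain ⟨u₀, hu₀, hmin⟩ := hK.exists_isMinOn hne (f := fun u => Metric.infDist (-u) C)
    ((Metric.continuous_infDist_pt C).comp continuous_neg).continuousOn
  have hc : 0 < Metric.infDist (-u₀) C := by
    refine lt_of_le_of_ne Metric.infDist_nonneg fun h => ?_
    have h0 := hp u₀ hu₀.1 ((hC.mem_iff_infDist_zero ⟨u₀, hu₀.1⟩).2 h.symm)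
    have h1 := hu₀.2
    rw [h0, mem_sphere_zero_iff_norm, norm_zero] at h1
    exact zero_ne_one h1
  refine (Metric.isBounded_closedBall (x := (0 : E)) (r := ‖a‖ / Metric.infDist (-u₀) C)).subset fun y hy => ?_
  rw [Metric.mem_closedBall, dist_zero_right, le_div_iff₀ hc]
  rcases (norm_nonneg y).eq_or_lt with h | h
  · rw [← h, zero_mul]; exact norm_nonneg a
  have hu : ‖y‖⁻¹ • y ∈ C ∩ Metric.sphere (0 : E) 1 :=
    ⟨hsmul _ (inv_pos.2 h) _ hy.1, by
      rw [mem_sphere_zero_iff_norm, norm_smul, norm_inv, norm_norm, inv_mul_cancel₀ h.ne']⟩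
  have h1 : Metric.infDist (-u₀) C ≤ ‖y‖⁻¹ * ‖a‖ := by
    refine (hmin hu).trans ((Metric.infDist_le_dist_of_mem (hsmul _ (inv_pos.2 h) _ hy.2)).trans (le_of_eq ?_))
    rw [dist_eq_norm, smul_sub, show -(‖y‖⁻¹ • y) - (‖y‖⁻¹ • a - ‖y‖⁻¹ • y) = -(‖y‖⁻¹ • a) by abel, norm_neg,
      norm_smul, norm_inv, norm_norm]
  calc ‖y‖ * Metric.infDist (-u₀) C ≤ ‖y‖ * (‖y‖⁻¹ * ‖a‖) := mul_le_mul_of_nonneg_left h1 h.le
    _ = ‖a‖ := by rw [← mul_assoc, mul_inv_cancel₀ h.ne', one_mul]

theorem isCompact_interval {V : Type u} [AddCommGroup V] [Module ℝ V] [TopologicalSpace V] [IsModuleTopology ℝ V]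
    [Module.Finite ℝ V] {C : Set V} (hC : IsClosed C) (hsmul : ∀ t : ℝ, 0 < t → ∀ x ∈ C, t • x ∈ C)
    (hp : ∀ x ∈ C, -x ∈ C → x = 0) (a : V) : IsCompact {y | y ∈ C ∧ a - y ∈ C} := by
  haveI := IsModuleTopology.toContinuousAdd ℝ V
  haveI := IsModuleTopology.toContinuousSMul ℝ V
  let n := Module.finrank ℝ V
  let b := Module.finBasis ℝ V
  let e := b.equivFun
  have h1 : Continuous e := IsModuleTopology.continuous_of_linearMap e.toLinearMap
  have h2 : Continuous e.symm := IsModuleTopology.continuous_of_linearMap e.symm.toLinearMap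
  let D : Set (Fin n → ℝ) := e.symm ⁻¹' C
  have hD : IsClosed D := hC.preimage h2
  have hI : {y | y ∈ C ∧ a - y ∈ C} = e.symm '' {z | z ∈ D ∧ e a - z ∈ D} := by
    ext y
    constructor
    · intro hy
      refine ⟨e y, ⟨?_, ?_⟩, e.symm_apply_apply y⟩
      · simpa [D] using hy.1
      · simpa [D] using hy.2
    · rintro ⟨z, ⟨h3, h4⟩, rfl⟩
      refine ⟨h3, ?_⟩
      simpa [D] using h4
  rw [hI]
  refine IsCompact.image ?_ h2
  refine Metric.isCompact_of_isClosed_isBounded
    (hD.inter (hD.preimage (continuous_const.sub continuous_id))) ?_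
  refine isBounded_interval hD (fun t ht x hx => ?_) (fun x hx hx' => ?_) _
  · show e.symm (t • x) ∈ C
    rw [map_smul]; exact hsmul t ht _ hx
  · have := hp (e.symm x) hx (by rw [← map_neg]; exact hx')
    simpa using this

/-- A common kernel of integral functionals is nonzero only if it has a nonzero integral point. -/
theorem eq_zero_of_int_kernel {ι : Type u} [Fintype ι] {A : Type v} (r : A → ι → ℤ)
    (hint : ∀ c : ι → ℤ, (∀ a, ∑ i, r a i * c i = 0) → c = 0)
    (x : ι → ℝ) (hx : ∀ a, ∑ i, (r a i : ℝ) * x i = 0) : x = 0 := by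
  classical
  let T : Submodule ℚ (ι → ℚ) := Submodule.span ℚ (Set.range fun a i => (r a i : ℚ))
  by_cases hT : T = ⊤
  · have key : ∀ v ∈ T, ∑ i, (v i : ℝ) * x i = 0 := fun v hv => by
      induction hv using Submodule.span_induction with
      | mem w hw => obtain ⟨a, rfl⟩ := hw; simpa using hx a
      | zero => simp
      | add p q _ _ hp hq => simp [add_mul, Finset.sum_add_distrib, hp, hq]
      | smul s p _ hp =>
        simp only [Pi.smul_apply, smul_eq_mul, Rat.cast_mul, mul_assoc, ← Finset.mul_sum, hp, mul_zero]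
    funext j
    have := key (Pi.single j 1) (by rw [hT]; trivial)
    rw [Finset.sum_eq_single j (fun b _ hb => by simp [hb]) (by simp)] at this
    simpa using this
  · exfalso
    obtain ⟨f, hf, hTf⟩ := Submodule.exists_le_ker_of_lt_top T (lt_of_le_of_ne le_top hT)
    let c : ι → ℚ := fun i => f (Pi.single i 1)
    obtain ⟨N, hN⟩ := IsLocalization.exist_integer_multiples_of_finite (nonZeroDivisors ℤ) c
    choose z hz using hN
    have hN0 : ((N : ℤ) : ℚ) ≠ 0 := Int.cast_ne_zero.2 (nonZeroDivisors.ne_zero N.2)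
    have hzc : ∀ i, (z i : ℚ) = ((N : ℤ) : ℚ) * c i := fun i => by
      rw [← smul_eq_mul, Int.cast_smul_eq_zsmul]
      simpa using hz i
    have hfv : ∀ v : ι → ℚ, f v = ∑ i, v i * c i := fun v => by
      conv_lhs => rw [pi_eq_sum_univ' v, map_sum]
      exact Finset.sum_congr rfl fun i _ => by rw [map_smul, smul_eq_mul]
    have hc0 : c = 0 := by
      have h0 := hint z fun a => by
        have h1 := hTf (Submodule.subset_span ⟨a, rfl⟩)
        rw [LinearMap.mem_ker, hfv] at h1
        have h2 : ((∑ i, r a i * z i : ℤ) : ℚ) = 0 := by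
          push_cast
          simp_rw [hzc, mul_left_comm _ ((N : ℤ) : ℚ), ← Finset.mul_sum]
          simp only at h1
          rw [h1, mul_zero]
        exact_mod_cast h2
      funext i
      have := hzc i
      rw [h0] at this
      simpa [hN0] using this.symm
    exact hf (LinearMap.ext fun v => by rw [hfv, hc0]; simp)

end PsefLib

end
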