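import Groth.Agent.PsefLib.Num
import Groth.Agent.PsefLib.Top
import Groth.Agent.NumRLib.Big
import Mathlib.LinearAlgebra.TensorProduct.RightExactness

/-!
# The pseudo-effective cone is pointed
-/

set_option autoImplicit false
set_option linter.style.haveILetI false
set_option linter.unusedSectionVars false
set_option backward.isDefEq.respectTransparency false
set_option maxHeartbeats 1000000
universe u

open CategoryTheory CategoryTheory.Limits AlgebraicGeometry TopologicalSpace
open HilbPolyLib DevissLib IntMultLib IntFunLib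
open scoped TensorProduct
open NumR

noncomputable section

namespace PsefLib

variable {k : Type u} [Field k] {X : Scheme.{u}} [X.Over (Spec (CommRingCat.of k))]
  [IsProper (X ↘ Spec (CommRingCat.of k))] [PicGrp.Law X]

theorem exists_functional (l : List X.Modules) (hl : ∀ A ∈ l, PicF.IsInvertible A)
    (hd : topologicalKrullDim X ≤ ((l.length + 1 : ℕ) : WithBot ℕ∞)) :
    ∃ φ : N1R k X →ₗ[ℝ] ℝ, ∀ (M : X.Modules) (hM : PicF.IsInvertible M),
      φ (clR k X M hM) = (N k (M :: l) (Coh.structureModule X) : ℝ) := by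
  haveI := CurvLib.isNoetherian k (X := X)
  have hO := DevissLib.isCoh_structureModule X
  have hdO : topologicalKrullDim (CohB1.support (Coh.structureModule X)) ≤ ((l.length + 1 : ℕ) : WithBot ℕ∞) :=
    (topologicalKrullDim_subspace_le _ _).trans hd
  choose rep hrep hrep' using fun c : PicLoc.PicSet X => PicGrp.exists_eq_cls c
  let g₀ : PicLoc.PicSet X → ℤ := fun c => N k (rep c :: l) (Coh.structureModule X)
  have hg₀ : ∀ (M : X.Modules) (hM : PicF.IsInvertible M),
      g₀ (PicGrp.cls M hM) = N k (M :: l) (Coh.structureModule X) := fun M hM => by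
    obtain ⟨e⟩ := (PicGrp.cls_eq_cls_iff (hrep _) hM).1 (hrep' (PicGrp.cls M hM)).symm
    simp only [g₀, N]
    rw [N_congr l (congrLeft e _)]
  let g : PicLoc.PicSet X →* Multiplicative ℤ :=
    { toFun := fun c => Multiplicative.ofAdd (g₀ c)
      map_one' := by
        rw [← PicGrp.cls_structureModule_eq_one, hg₀, N, N_congr l (unitLeft _), sub_self]
        rfl
      map_mul' := fun a b => by
        obtain ⟨L, hL, rfl⟩ := PicGrp.exists_eq_cls a
        obtain ⟨M, hM, rfl⟩ := PicGrp.exists_eq_cls b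
        rw [NumRLib.cls_mul hL hM (HilbPolyLib.isInvertible_tensor hL hM), hg₀, hg₀, hg₀,
          N_tensor hl hL hM hO hdO]
        rfl }
  have hker : PicGrp.subCl (Y := X) (Pic13.IsNumEquivZero k X) ≤ g.ker := by
    refine (Subgroup.closure_le _).2 ?_
    rintro _ ⟨L, hL, hP, rfl⟩
    show Multiplicative.ofAdd (g₀ (PicGrp.cls L hL)) = 1
    rw [hg₀, NumTrivLib.N_cons_zero (NumTrivLib.NT.of_isNumEquivZero hL hP) hl hO hdO]
    rfl
  let f : N1 k X →+ ℤ := MonoidHom.toAdditiveLeft (QuotientGroup.lift _ g hker)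
  refine ⟨(TensorProduct.AlgebraTensorModule.rid ℤ ℝ ℝ).toLinearMap.comp (f.toIntLinearMap.baseChange ℝ), fun M hM => ?_⟩
  show (TensorProduct.AlgebraTensorModule.rid ℤ ℝ ℝ) ((f.toIntLinearMap.baseChange ℝ) ((1 : ℝ) ⊗ₜ[ℤ] NumR.cl k X M hM)) = _
  rw [LinearMap.baseChange_tmul, TensorProduct.AlgebraTensorModule.rid_tmul, zsmul_one]
  congr 1
  exact hg₀ M hM

theorem psef_smul (t : ℝ) (ht : 0 < t) {x : N1R k X} (hx : x ∈ psefCone k X) : t • x ∈ psefCone k X :=
  map_mem_closure (continuous_const_smul t) hx fun _ ha => (effCone k X).smul_mem ht ha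

theorem eq_zero_of_psef [GeometricallyIntegral (X ↘ Spec (CommRingCat.of k))] [IsIntegral X]
    [Module.Finite ℝ (N1R k X)] {A : X.Modules} (hA : CohB1.IsAmple A) {x : N1R k X}
    (hx : x ∈ psefCone k X) (hx' : -x ∈ psefCone k X) : x = 0 := by
  classical
  haveI := CurvLib.isNoetherian k (X := X)
  obtain ⟨ι, _, L, hL, b, hb⟩ := NumRLib.exists_basis (k := k) (X := X)
  obtain ⟨D, hD, -⟩ : ∃ D : ℕ, topologicalKrullDim X = (D : WithBot ℕ∞) ∧ True := by
    obtain ⟨D₀, hD₀⟩ := exists_dim_lt k (X := X)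
    have h0 : (0 : WithBot ℕ∞) ≤ topologicalKrullDim X := by
      rw [← (Homeomorph.Set.univ X).isHomeomorph.topologicalKrullDim_eq]
      exact IntFunLib.nonneg_dim Set.univ_nonempty
    have hne : topologicalKrullDim X ≠ ⊥ := fun h => by rw [h] at h0; exact absurd h0 (by simp)
    obtain ⟨w, hw⟩ := WithBot.ne_bot_iff_exists.1 hne
    have hwlt : w < (D₀ : ℕ∞) := by rw [← hw] at hD₀; exact_mod_cast hD₀
    obtain ⟨D, rfl⟩ := ENat.ne_top_iff_exists.1 hwlt.ne_top
    exact ⟨D, hw.symm, trivial⟩
  rcases D with _ | d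
  · have hz : ∀ i, b i = 0 := fun i => by
      rw [hb, clR_def, NumR.cl_eq_zero (hL i) (fun Y g _ _ hY => ?_), map_zero]
      exfalso
      have hle := g.isEmbedding.isInducing.topologicalKrullDim_le
      rw [hY, hD] at hle
      exact absurd hle (by norm_num)
    rw [← b.sum_repr x]
    exact Finset.sum_eq_zero fun i _ => by rw [hz, smul_zero]
  have hfun : ∀ l : {l : List X.Modules // Adm k d l}, ∃ φ : N1R k X →ₗ[ℝ] ℝ, ∀ (M : X.Modules) (hM : PicF.IsInvertible M),
      φ (clR k X M hM) = (N k (M :: l.1) (Coh.structureModule X) : ℝ) := fun l =>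
    exists_functional l.1 l.2.inv (by rw [hD, l.2.len])
  choose φ hφ using hfun
  have hnn : ∀ l, ∀ y ∈ psefCone k X, 0 ≤ φ l y := fun l y hy => by
    refine closure_minimal ?_ (isClosed_le continuous_const (IsModuleTopology.continuous_of_linearMap (φ l))) hy
    refine NumRLib.coneOf_le (fun M hM hs => ?_) (fun t ht a ha => ?_) (fun a ha c hc => ?_)
    · obtain ⟨s, hs⟩ := hs
      show 0 ≤ φ l (clR k X M hM)
      rw [hφ]
      exact_mod_cast nonneg_of_section hD l.2 hM s hs
    · show 0 ≤ φ l (t • a)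
      rw [map_smul, smul_eq_mul]
      exact mul_nonneg ht.le ha
    · show 0 ≤ φ l (a + c)
      rw [map_add]
      exact add_nonneg ha hc
  have h0 : ∀ l, φ l x = 0 := fun l => le_antisymm (by simpa using hnn l _ hx') (hnn l x hx)
  have key := eq_zero_of_int_kernel (fun (l : {l : List X.Modules // Adm k d l}) i => N k (L i :: l.1) (Coh.structureModule X))
    (fun c hc => ?_) (fun i => b.repr x i) (fun l => ?_)
  · rw [← b.sum_repr x]
    exact Finset.sum_eq_zero fun i _ => by rw [show b.repr x i = 0 from congrFun key i, zero_smul]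
  · obtain ⟨M, hM, hMe⟩ := NumRLib.exists_clR_comb (k := k) Finset.univ hL c
    have hnum : Pic13.IsNumEquivZero k X M := main hD hA hM fun l hl => by
      have h1 : φ ⟨l, hl⟩ (clR k X M hM) = 0 := by
        rw [hMe, map_sum]
        simp only [map_smul, smul_eq_mul, hφ]
        have h2 := hc ⟨l, hl⟩
        have h3 : ((∑ i, N k (L i :: l) (Coh.structureModule X) * c i : ℤ) : ℝ) = 0 := by exact_mod_cast h2
        push_cast at h3
        rw [← h3]
        exact Finset.sum_congr rfl fun i _ => mul_comm _ _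
      rw [hφ] at h1
      exact_mod_cast h1
    have hM0 : ∑ i, (c i : ℝ) • b i = 0 := by
      simp only [hb]
      rw [← hMe, clR_def, NumR.cl_eq_zero hM hnum, map_zero]
    funext i
    exact_mod_cast Fintype.linearIndependent_iff.mp b.linearIndependent (fun j => (c j : ℝ)) hM0 i
  · have h1 := h0 l
    rw [← b.sum_repr x, map_sum] at h1
    simp only [map_smul, smul_eq_mul, hb, hφ] at h1
    rw [← h1]
    exact Finset.sum_congr rfl fun i _ => mul_comm _ _

end PsefLib

end
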