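import Groth.Agent.BertiniIrrLib.Index
import Groth.Agent.NumTrivLib.Desc
import Groth.Agent.VeryAmpleLib.Bc
import Groth.Agent.MiscFlat6.AmpleGen
import Groth.Agent.IntFunLib.Kleiman

/-!
# Intersection criterion for numerical triviality
-/

set_option autoImplicit false
set_option linter.style.haveILetI false
set_option linter.unusedSectionVars false
set_option backward.isDefEq.respectTransparency false
set_option maxHeartbeats 1000000
universe u

open CategoryTheory CategoryTheory.Limits AlgebraicGeometry TopologicalSpace Opposite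
open HilbPolyLib DevissLib IntMultLib IntFunLib
open KFlatLib (pb)

noncomputable section

namespace PsefLib

variable {k : Type u} [Field k] {X : Scheme.{u}} [X.Over (Spec (CommRingCat.of k))]
  [IsProper (X ↘ Spec (CommRingCat.of k))]

/-- Admissible lists in dimension `d + 1`: invertible, nonnegative on `d`-dimensional subvarieties. -/
structure Adm (k : Type u) [Field k] {X : Scheme.{u}} [X.Over (Spec (CommRingCat.of k))] (d : ℕ)
    (l : List X.Modules) : Prop where
  inv : ∀ A ∈ l, PicF.IsInvertible A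
  len : l.length = d
  pos : ∀ ξ : X, topologicalKrullDim (closure ({ξ} : Set X)) = (d : WithBot ℕ∞) → 0 ≤ N k l (Fpt ξ)

theorem adm_replicate {H : X.Modules} (hH : CohB1.IsAmple H) (d : ℕ) : Adm k d (List.replicate d H) :=
  ⟨fun A hA => by rw [List.eq_of_mem_replicate hA]; exact hH.1, List.length_replicate,
    fun _ hξ => (N_ample_pos hH hξ).le⟩

theorem adm_cons {A H : X.Modules} (hA : CohB1.IsAmple A) (hH : CohB1.IsAmple H) (e : ℕ) :
    Adm k (e + 1) (A :: List.replicate e H) := by
  refine ⟨List.forall_mem_cons.mpr ⟨hA.1, (adm_replicate (k := k) hH e).inv⟩, by simp, fun ξ hξ => ?_⟩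
  have hn : Nef k A := fun η hη => by simpa using (N_ample_pos (k := k) hA hη).le
  simpa [J] using hyp_all (k := k) (e + 1) X A H hA.1 hn hH 1 e (Nat.add_comm _ _) ξ hξ

theorem N_bc (K : Type u) [Field K] [Algebra k K] :
    ∀ (l : List X.Modules), (∀ A ∈ l, PicF.IsInvertible A) → ∀ F : X.Modules, Coh.IsCoh F →
      N K (l.map (pb (Curv2.bcFst k X K))) (pb (Curv2.bcFst k X K) F) = N k l F := by
  intro l
  haveI := CurvLib.isNoetherian k (X := X)
  induction l with
  | nil => intro _ F hF; exact HilbPolyLib.euler_bc K hF.1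
  | cons A l ih =>
    intro hl F hF
    have hl' := (List.forall_mem_cons.mp hl).2
    obtain ⟨q⟩ := NumTrivLib.nonempty_pb_tensor (Curv2.bcFst k X K) A F
    rw [List.map_cons, N, N, ih hl' F hF, ← ih hl' (CohB1.tensorMod A F) (isCoh_tensor (hl A (List.mem_cons_self)) hF)]
    exact congrArg (fun z => z - _) (N_congr _ q)

theorem dim_O {d : ℕ} (hd : topologicalKrullDim X = (d : WithBot ℕ∞)) :
    topologicalKrullDim (CohB1.support (Coh.structureModule X)) ≤ (d : WithBot ℕ∞) :=
  (topologicalKrullDim_subspace_le _ _).trans hd.le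

theorem nonneg_of_section [IsIntegral X] {d : ℕ} (hd : topologicalKrullDim X = ((d + 1 : ℕ) : WithBot ℕ∞))
    {l : List X.Modules} (hl : Adm k d l) {M : X.Modules} (hM : PicF.IsInvertible M)
    (φ : Coh.structureModule X ⟶ M) (hφ : φ ≠ 0) : 0 ≤ N k (M :: l) (Coh.structureModule X) := by
  haveI := CurvLib.isNoetherian k (X := X)
  have hO := DevissLib.isCoh_structureModule X
  have hMc : Coh.IsCoh M := CurvLib.isCoh_of_isInvertible hM
  haveI : Mono φ := CurvLib.mono_of_ne_zero CurvLib.isInvertible_structureModule hM hφ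
  have hS : (ShortComplex.mk φ (cokernel.π φ) (cokernel.condition φ)).ShortExact :=
    { exact := ShortComplex.exact_cokernel φ, mono_f := inferInstanceAs (Mono φ)
      epi_g := inferInstanceAs (Epi (cokernel.π φ)) }
  have hC : Coh.IsCoh (cokernel φ) := QCohLib.isCoh_cokernel φ hO.1 hMc
  have h1 := N_add (k := k) hl.inv hS hO hMc hC
  rw [N, N_congr l (show CohB1.tensorMod M (Coh.structureModule X) ≅ M from swapIso _ _ ≪≫ unitLeft _), h1,
    add_sub_cancel_left]
  refine N_nonneg hl.inv hC ?_ fun ξ _ hξ => hl.pos ξ (by rw [hξ, hl.len])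
  rw [hl.len]
  refine dim_le_iff.mp ?_
  refine dim_lt_of_notMem (QCohLib.isClosed_support _ hC.2) (fun z _ => ?_)
    (CurvLib.generic_notMem_support_cokernel CurvLib.isInvertible_structureModule hM hφ) (Y := Set.univ)
    (Set.subset_univ _) ?_
  · rw [(genericPoint_spec X).def]; exact trivial
  · exact ((topologicalKrullDim_subspace_le _ _).trans hd.le).trans_lt (by exact_mod_cast Nat.lt_succ_self (d + 1))

/-- Large twists are ample. -/
theorem exists_ample_twist {M H : X.Modules} (hM : PicF.IsInvertible M) (hH : CohB1.IsAmple H) :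
    ∃ n₀ : ℕ, ∀ n, n₀ ≤ n → CohB1.IsAmple (CohB1.tensorMod (CohB1.tensorPow H n) M) := by
  obtain ⟨N₀, hN⟩ := MiscFlat6.exists_gen_twist hH hM
  refine ⟨N₀ + 1, fun n hn => ?_⟩
  obtain ⟨n, rfl⟩ : ∃ n', n = n' + 1 := ⟨n - 1, by omega⟩
  have hP := AmpleThLib.tensorPow_isInvertible hH.1 n
  have hPL := HilbPolyLib.isInvertible_tensor hP hM
  have hA := MiscFlat6.isAmple_tensor_of_generated hH hPL fun x => by
    obtain ⟨σ, hσ⟩ := hN n (by omega) x
    refine ⟨1, _, one_pos, ⟨AmpleThLib.pS σ 1, rfl⟩, ?_⟩
    rw [AmpleThLib.genSet_pS hPL σ one_pos]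
    exact hσ
  exact AmpleDevLib.isAmple_of_iso (HilbPolyLib.isInvertible_tensor hH.1 hPL)
    (HilbPolyLib.isInvertible_tensor (AmpleThLib.tensorPow_isInvertible hH.1 (n + 1)) hM)
    ((assocIso _ _ _).symm ≪≫ congrLeft (swapIso H (CohB1.tensorPow H n)) M) hA

theorem main [GeometricallyIntegral (X ↘ Spec (CommRingCat.of k))] [IsIntegral X] {d : ℕ}
    (hd : topologicalKrullDim X = ((d + 1 : ℕ) : WithBot ℕ∞)) {H : X.Modules} (hH : CohB1.IsAmple H)
    {M : X.Modules} (hM : PicF.IsInvertible M)
    (h : ∀ l, Adm k d l → N k (M :: l) (Coh.structureModule X) = 0) : Pic13.IsNumEquivZero k X M := by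
  haveI := CurvLib.isNoetherian k (X := X)
  rcases d with _ | e
  · refine NumTrivLib.NT.isNumEquivZero (k := k) ⟨hM, fun C hC hCd => ?_⟩
    haveI := hC
    have hg : topologicalKrullDim (closure ({C.subschemeι (genericPoint C.subscheme)} : Set X)) = ((1 : ℕ) : WithBot ℕ∞) := by
      rw [IntFunLib.dim_generic_of_support, hCd, Nat.cast_one]
    have heq : C.subschemeι (genericPoint C.subscheme) = genericPoint X :=
      (eq_of_specializes_of_dim isClosed_univ ((topologicalKrullDim_subspace_le _ _).trans hd.le) hg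
        trivial ((genericPoint_spec X).specializes trivial)).symm
    rw [← IntFunLib.N_singleton (k := k) M C, IntFunLib.eq_ptIdeal C, heq]
    refine Eq.trans (N_structure (k := k) (l := [M]) (by simpa using hM) hd).symm ?_
    exact h [] (adm_replicate hH 0)
  let K := AlgebraicClosure k
  let p := Curv2.bcFst k X K
  haveI : IsIntegral (Curv2.bc k X K) := VeryAmpleLib.isIntegral_bc k X K
  haveI : IsProper (Curv2.bc k X K ↘ Spec (CommRingCat.of K)) := NumTrivLib.isProper_bc (k := k) (X := X) K
  have hdK : topologicalKrullDim ↥(Curv2.bc k X K) = ((e + 2 : ℕ) : WithBot ℕ∞) := (VeryAmpleLib.dim_bc k X K).trans hd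
  haveI : IrreducibleSpace ↥(Curv2.bc k X K) := inferInstance
  have hO := DevissLib.isCoh_structureModule X
  have hrep : ∀ j, ∀ A ∈ List.replicate j H, PicF.IsInvertible A := fun j A hA => by
    rw [List.eq_of_mem_replicate hA]; exact hH.1
  -- the square
  have hsq : N k (M :: M :: List.replicate e H) (Coh.structureModule X) = 0 := by
    obtain ⟨n₀, hn⟩ := exists_ample_twist hM hH
    have hA := hn n₀ le_rfl
    have hP := AmpleThLib.tensorPow_isInvertible hH.1 n₀
    have hl : ∀ B ∈ M :: List.replicate e H, PicF.IsInvertible B := List.forall_mem_cons.mpr ⟨hM, hrep e⟩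
    have hdim : topologicalKrullDim (CohB1.support (Coh.structureModule X)) ≤
        (((M :: List.replicate e H).length + 1 : ℕ) : WithBot ℕ∞) := by
      simpa using dim_O (d := e + 1 + 1) hd
    have h1 := h _ (adm_cons hA hH e)
    rw [N_perm (List.Perm.swap _ _ _), N_tensor hl hP hM hO hdim, N_pow hl hH.1 hO hdim] at h1
    have h2 : N k (H :: M :: List.replicate e H) (Coh.structureModule X) = 0 := by
      rw [N_perm (List.Perm.swap M H _)]
      exact h _ (adm_replicate hH (e + 1))
    rw [h2, mul_zero, zero_add] at h1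
    exact h1
  have hgen : ∀ l : List X.Modules, (∀ A ∈ l, PicF.IsInvertible A) → l.length = e + 2 →
      N K (l.map (pb p)) (Fpt (genericPoint ↥(Curv2.bc k X K))) = N k l (Coh.structureModule X) := fun l hl hlen => by
    rw [← N_structure (k := K) (fun A hA => by
        obtain ⟨B, hB, rfl⟩ := List.mem_map.mp hA
        exact AmpleDevLib.isInvertible_pb p (hl B hB)) (by rw [List.length_map, hlen, hdK]),
      ← N_bc K l hl _ hO]
    exact N_congr _ (KFlatLib.pullUnitIso p).symm
  refine NumTrivLib.NT.of_bc (E := K) hM (BertiniIrrLib.NT_of_index hdK (A := pb p H) (HilbPolyLib.isAmple_bc K hH)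
    (AmpleDevLib.isInvertible_pb p hM) ?_ ?_)
  · have h1 := hgen (M :: List.replicate (e + 1) H) (List.forall_mem_cons.mpr ⟨hM, hrep _⟩) (by simp)
    rw [List.map_cons, List.map_replicate] at h1
    exact h1.trans (h _ (adm_replicate hH (e + 1)))
  · have h1 := hgen (M :: M :: List.replicate e H)
      (List.forall_mem_cons.mpr ⟨hM, List.forall_mem_cons.mpr ⟨hM, hrep _⟩⟩) (by simp)
    rw [List.map_cons, List.map_cons, List.map_replicate] at h1
    exact (h1.trans hsq).ge

end PsefLib

end
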